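import Mathlib
import Groth.Agent.ProConsLib.Sch

/-!
# Maps with image in an ind-constructible set factor through finitely presented algebras
-/

set_option autoImplicit false

noncomputable section

universe u

open CategoryTheory AlgebraicGeometry Topology MvPolynomial

namespace Groth.Agent.FactorRange

variable {A B : Type u} [CommRing A] [CommRing B] [Algebra A B]

/-- An algebra whose spectrum lands in an ind-constructible set receives a finitely presented one
with the same property. -/
theorem exists_fp {E : Set ↥(Spec (CommRingCat.of A))} (hE : ProCons.IsIndConstructible E)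
    (h : ∀ q : PrimeSpectrum B, PrimeSpectrum.comap (algebraMap A B) q ∈ E) :
    ∃ (B' : Type u) (_ : CommRing B') (_ : Algebra A B') (_ : Algebra.FinitePresentation A B')
      (_ψ : B' →ₐ[A] B), ∀ q : PrimeSpectrum B', PrimeSpectrum.comap (algebraMap A B') q ∈ E := by
  classical
  let P := MvPolynomial B A
  let e : P →ₐ[A] B := aeval id
  let π : Spec (CommRingCat.of P) ⟶ Spec (CommRingCat.of A) := Spec.map (CommRingCat.ofHom (algebraMap A P))
  let F : ↥(RingHom.ker e.toRingHom) → Set ↥(Spec (CommRingCat.of P)) := fun r => PrimeSpectrum.zeroLocus {r.1}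
  have hF : ∀ r, ProCons.IsProConstructible (F r) := fun r => by
    refine (ProConsLib.isLocallyConstructible_iff_ind_and_pro.1 ?_).2
    refine IsConstructible.isLocallyConstructible ?_
    have : F r = ((PrimeSpectrum.basicOpen r.1 : TopologicalSpace.Opens (PrimeSpectrum P)) : Set (PrimeSpectrum P))ᶜ := by
      rw [PrimeSpectrum.basicOpen_eq_zeroLocus_compl, compl_compl]
    rw [this]
    exact PrimeSpectrum.isConstructible_basicOpen.compl
  obtain ⟨J, hJ⟩ := ProConsLib.exists_finset_inter_subset (ProConsLib.isIndConstructible_preimage π hE) F hF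
    (fun Q hQ => by
      have hle : RingHom.ker e.toRingHom ≤ Q.asIdeal := fun r hr => by
        have := Set.mem_iInter.1 hQ ⟨r, hr⟩
        exact this (Set.mem_singleton r)
      have hs : Function.Surjective e.toRingHom := fun b => ⟨X b, aeval_X id b⟩
      obtain ⟨q, rfl⟩ : Q ∈ Set.range (PrimeSpectrum.comap e.toRingHom) := by
        rw [_root_.range_comap_of_surjective B e.toRingHom hs]
        exact hle
      show PrimeSpectrum.comap (algebraMap A P) _ ∈ E
      rw [← PrimeSpectrum.comap_comp_apply, show e.toRingHom.comp (algebraMap A P) = algebraMap A B from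
        RingHom.ext e.commutes]
      exact h q)
  let s : Finset B := J.biUnion fun r => r.1.vars
  let P' := MvPolynomial {b // b ∈ s} A
  let rn : P' →ₐ[A] P := rename Subtype.val
  have hr : ∀ r : {r // r ∈ J}, ∃ r' : P', rn r' = r.1.1 := fun r =>
    exists_rename_eq_of_vars_subset_range _ Subtype.val Subtype.val_injective
      (fun b hb => ⟨⟨b, Finset.mem_biUnion.2 ⟨r.1, r.2, hb⟩⟩, rfl⟩)
  choose r' hr' using hr
  let I : Ideal P' := Ideal.span (Set.range r')
  haveI : Algebra.FinitePresentation A (P' ⧸ I) :=
    Algebra.FinitePresentation.quotient (Submodule.fg_span (Set.finite_range r'))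
  refine ⟨P' ⧸ I, inferInstance, inferInstance, inferInstance,
    Ideal.Quotient.liftₐ I (e.comp rn) fun a ha => ?_, fun q => ?_⟩
  · have : I ≤ RingHom.ker (e.comp rn).toRingHom := by
      rw [Ideal.span_le]
      rintro _ ⟨r, rfl⟩
      show e (rn (r' r)) = 0
      rw [hr']
      exact r.1.2
    exact this ha
  · let ρ : P →ₐ[A] P' := aeval fun b => if hb : b ∈ s then X ⟨b, hb⟩ else 0
    have hρ : ρ.comp rn = AlgHom.id A P' := MvPolynomial.algHom_ext fun b => by
      show ρ (rename Subtype.val (X b)) = X b
      rw [rename_X, aeval_X, dif_pos b.2]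
    let Q : PrimeSpectrum P := PrimeSpectrum.comap ((Ideal.Quotient.mk I).comp ρ.toRingHom) q
    have hQ : Q ∈ ⋂ r ∈ J, F r := Set.mem_iInter₂.2 fun r hrJ => by
      intro a ha
      rw [Set.mem_singleton_iff] at ha
      subst ha
      show Ideal.Quotient.mk I (ρ r.1) ∈ q.asIdeal
      rw [← hr' ⟨r, hrJ⟩, ← AlgHom.comp_apply ρ rn, hρ, AlgHom.id_apply,
        Ideal.Quotient.eq_zero_iff_mem.2 (Ideal.subset_span (Set.mem_range_self (f := r') ⟨r, hrJ⟩))]
      exact zero_mem _
    have := hJ hQ
    change PrimeSpectrum.comap (algebraMap A P) Q ∈ E at this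
    rw [← PrimeSpectrum.comap_comp_apply] at this
    rw [show ((Ideal.Quotient.mk I).comp ρ.toRingHom).comp (algebraMap A P) = algebraMap A (P' ⧸ I) from
      RingHom.ext fun a => congrArg (Ideal.Quotient.mk I) (ρ.commutes a)] at this
    exact this

omit [CommRing B] [Algebra A B] in
/-- Retracts of finitely presented algebras are finitely presented. -/
theorem finitePresentation_of_retract {B C : Type u} [CommRing B] [CommRing C] [Algebra A B] [Algebra A C]
    [Algebra.FinitePresentation A C] (i : B →ₐ[A] C) (p : C →ₐ[A] B) (h : p.comp i = AlgHom.id A B) :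
    Algebra.FinitePresentation A B := by
  classical
  have hp : Function.Surjective p := fun b => ⟨i b, AlgHom.congr_fun h b⟩
  obtain ⟨t, ht⟩ : (⊤ : Subalgebra A C).FG := (inferInstance : Algebra.FiniteType A C).out
  refine Algebra.FinitePresentation.of_surjective hp ?_
  refine ⟨t.image fun g => g - i (p g), le_antisymm (Ideal.span_le.2 ?_) ?_⟩
  · intro x hx
    rw [Finset.coe_image] at hx
    obtain ⟨g, -, rfl⟩ := hx
    show p (g - i (p g)) = 0
    rw [map_sub, show p (i (p g)) = p g from AlgHom.congr_fun h (p g), sub_self]
  · intro x hx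
    have key : ∀ y : C, y ∈ Algebra.adjoin A (t : Set C) →
        y - i (p y) ∈ Ideal.span ((t.image fun g => g - i (p g) : Finset C) : Set C) := fun y hy => by
      induction hy using Algebra.adjoin_induction with
      | mem g hg => exact Ideal.subset_span (Finset.mem_coe.2 (Finset.mem_image_of_mem _ hg))
      | algebraMap a => rw [p.commutes, i.commutes, sub_self]; exact zero_mem _
      | add a b _ _ ha hb => rw [map_add, map_add, add_sub_add_comm]; exact add_mem ha hb
      | mul a b _ _ ha hb =>
        rw [map_mul, map_mul, show a * b - i (p a) * i (p b) = a * (b - i (p b)) + i (p b) * (a - i (p a)) by ring]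
        exact add_mem (Ideal.mul_mem_left _ a hb) (Ideal.mul_mem_left _ _ ha)
    have := key x (ht.ge Algebra.mem_top)
    rwa [show p x = 0 from hx, map_zero, sub_zero] at this

end Groth.Agent.FactorRange
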