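import Mathlib
import Groth.Agent.FactorRangeLib.Alg

/-!
# Monomorphisms representing an ind-constructible set
-/

set_option autoImplicit false

noncomputable section

universe u

open CategoryTheory AlgebraicGeometry Topology

namespace Groth.Agent.FactorRange

variable {X Y : Scheme.{u}} (i : Y ⟶ X) [Mono i] {E : Set X}

/-- A monomorphism through which exactly the maps into an ind-constructible set factor is an open
immersion. -/
theorem isOpenImmersion_of_factor (hE : ProCons.IsIndConstructible E)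
    (h : ∀ (C : CommRingCat.{u}) (g : Spec C ⟶ X), Set.range g.base ⊆ E → ∃ z : Spec C ⟶ Y, z ≫ i = g)
    (hi : Set.range i.base ⊆ E) : IsOpenImmersion i ∧ Set.range i.base = E := by
  have hrange : E ⊆ Set.range i.base := fun x hx => by
    obtain ⟨z, hz⟩ := h _ (X.fromSpecResidueField x) (by
      rw [Scheme.range_fromSpecResidueField]; exact Set.singleton_subset_iff.2 hx)
    obtain ⟨q, hq⟩ : x ∈ Set.range (X.fromSpecResidueField x).base := by
      rw [Scheme.range_fromSpecResidueField]; rfl
    exact ⟨z.base q, by rw [← Scheme.Hom.comp_apply, hz]; exact hq⟩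
  suffices hs : Smooth i from
    ⟨IsOpenImmersion.of_flat_of_mono i, hi.antisymm hrange⟩
  rw [HasRingHomProperty.iff_appLE (P := @Smooth)]
  rintro ⟨V, hV⟩ ⟨U, hU⟩ e
  replace hU : IsAffineOpen U := hU
  replace hV : IsAffineOpen V := hV
  change U ≤ i ⁻¹ᵁ V at e
  show (i.appLE V U e).hom.Smooth
  let φ := (i.appLE V U e).hom
  letI : Algebra Γ(X, V) Γ(Y, U) := φ.toAlgebra
  let j : Spec Γ(X, V) ⟶ X := hV.fromSpec
  have hj : Spec.map (i.appLE V U e) ≫ j = hU.fromSpec ≫ i :=
    IsAffineOpen.SpecMap_appLE_fromSpec i hV hU e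
  let EA : Set ↥(Spec Γ(X, V)) := j.base ⁻¹' E
  have hEA : ProCons.IsIndConstructible EA := ProConsLib.isIndConstructible_preimage j hE
  have lift : ∀ (C : Type u) [CommRing C] [Algebra Γ(X, V) C],
      (∀ q, PrimeSpectrum.comap (algebraMap Γ(X, V) C) q ∈ EA) →
      ∃ z : Spec (CommRingCat.of C) ⟶ Y,
        z ≫ i = Spec.map (CommRingCat.ofHom (algebraMap Γ(X, V) C)) ≫ j := fun C _ _ hC =>
    h _ (Spec.map (CommRingCat.ofHom (algebraMap Γ(X, V) C)) ≫ j) (by
      rintro _ ⟨q, rfl⟩
      exact hC q)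
  have inU : ∀ (C : Type u) [CommRing C] [Algebra Γ(X, V) C] (z : Spec (CommRingCat.of C) ⟶ Y),
      z ≫ i = Spec.map (CommRingCat.ofHom (algebraMap Γ(X, V) C)) ≫ j →
      (∀ q, z.base q ∈ U) → ∃ g : Γ(Y, U) →ₐ[Γ(X, V)] C,
        Spec.map (CommRingCat.ofHom g.toRingHom) ≫ hU.fromSpec = z := fun C _ _ z hz hzU => by
    have hzr : Set.range z.base ⊆ Set.range hU.fromSpec.base := by
      rw [hU.range_fromSpec]; rintro _ ⟨q, rfl⟩; exact hzU q
    obtain ⟨g, hg⟩ := Spec.map_surjective (IsOpenImmersion.lift hU.fromSpec z hzr)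
    have hg' : Spec.map g ≫ hU.fromSpec = z := by rw [hg, IsOpenImmersion.lift_fac]
    have hcomm : i.appLE V U e ≫ g = CommRingCat.ofHom (algebraMap Γ(X, V) C) := by
      refine Spec.map_injective ((cancel_mono j).1 ?_)
      rw [Spec.map_comp, Category.assoc, hj, ← hz, ← hg', Category.assoc]
    exact ⟨{ g.hom with commutes' := fun r => RingHom.congr_fun (congrArg CommRingCat.Hom.hom hcomm) r }, hg'⟩
  have hB : ∀ q : PrimeSpectrum Γ(Y, U), PrimeSpectrum.comap (algebraMap Γ(X, V) Γ(Y, U)) q ∈ EA := fun q => by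
    show j.base ((Spec.map (i.appLE V U e)).base q) ∈ E
    rw [← Scheme.Hom.comp_apply, hj]
    exact hi ⟨_, (Scheme.Hom.comp_apply hU.fromSpec i q).symm⟩
  haveI hfp : Algebra.FinitePresentation Γ(X, V) Γ(Y, U) := by
    obtain ⟨B', _, _, _, ψ, hψ⟩ := exists_fp (B := Γ(Y, U)) hEA hB
    obtain ⟨z, hz⟩ := lift B' hψ
    have hzψ : Spec.map (CommRingCat.ofHom ψ.toRingHom) ≫ z = hU.fromSpec := by
      refine (cancel_mono i).1 ?_
      rw [Category.assoc, hz, ← Spec.map_comp_assoc, ← hj]
      congr 2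
      exact CommRingCat.hom_ext (RingHom.ext ψ.commutes)
    let W : Set ↥(Spec (CommRingCat.of B')) := z.base ⁻¹' (U : Set Y)
    have hW : ProCons.IsIndConstructible W := by
      refine ProConsLib.isIndConstructible_preimage z ?_
      rw [← U.range_ι, ← Set.image_univ]
      exact ProConsLib.isIndConstructible_image U.ι
        (ProConsLib.isLocallyConstructible_iff_ind_and_pro.1 IsLocallyConstructible.univ).1
    letI : Algebra B' Γ(Y, U) := ψ.toRingHom.toAlgebra
    obtain ⟨B'', _, _, _, ψ', hψ'⟩ := exists_fp (A := B') (B := Γ(Y, U)) hW fun q => by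
      show z.base ((Spec.map (CommRingCat.ofHom ψ.toRingHom)).base q) ∈ U
      rw [← Scheme.Hom.comp_apply, hzψ]
      have := Set.mem_range_self (f := hU.fromSpec.base) q
      rwa [hU.range_fromSpec] at this
    letI : Algebra Γ(X, V) B'' := ((algebraMap B' B'').comp (algebraMap Γ(X, V) B')).toAlgebra
    haveI : IsScalarTower Γ(X, V) B' B'' := IsScalarTower.of_algebraMap_eq' rfl
    haveI : Algebra.FinitePresentation Γ(X, V) B'' := Algebra.FinitePresentation.trans Γ(X, V) B' B''
    let z' : Spec (CommRingCat.of B'') ⟶ Y := Spec.map (CommRingCat.ofHom (algebraMap B' B'')) ≫ z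
    obtain ⟨χ, hχ⟩ := inU B'' z' (by
      rw [Category.assoc, hz, ← Spec.map_comp_assoc]
      rfl) fun q => hψ' q
    let p : B'' →ₐ[Γ(X, V)] Γ(Y, U) := { ψ'.toRingHom with
      commutes' := fun r => (ψ'.commutes (algebraMap Γ(X, V) B' r)).trans (ψ.commutes r) }
    refine finitePresentation_of_retract χ p (AlgHom.coe_ringHom_injective ?_)
    have : CommRingCat.ofHom χ.toRingHom ≫ CommRingCat.ofHom p.toRingHom = 𝟙 Γ(Y, U) := by
      refine Spec.map_injective ((cancel_mono hU.fromSpec).1 ?_)
      rw [Spec.map_comp, Category.assoc, hχ]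
      refine Eq.trans ?_ ((congrArg (fun m => m ≫ hU.fromSpec) (Spec.map_id _)).trans (Category.id_comp _)).symm
      rw [← hzψ]
      show Spec.map _ ≫ Spec.map _ ≫ z = _
      rw [← Spec.map_comp_assoc]
      congr 2
      exact CommRingCat.hom_ext (RingHom.ext ψ'.commutes)
    exact congrArg CommRingCat.Hom.hom this
  haveI : Algebra.FormallySmooth Γ(X, V) Γ(Y, U) := by
    refine Algebra.FormallySmooth.of_comp_surjective fun C _ _ I hI f => ?_
    let m := CommRingCat.ofHom (Ideal.Quotient.mk I)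
    have hm : Function.Surjective (Spec.map m).base := fun q => by
      have hle : I ≤ q.asIdeal := fun a ha => q.isPrime.mem_of_pow_mem 2 (by
        have : a ^ 2 ∈ I ^ 2 := Ideal.pow_mem_pow ha 2
        rw [hI] at this
        rw [(Ideal.mem_bot).1 this]
        exact zero_mem _)
      have : q ∈ Set.range (PrimeSpectrum.comap (Ideal.Quotient.mk I)) := by
        rw [_root_.range_comap_of_surjective _ _ Ideal.Quotient.mk_surjective, Ideal.mk_ker]
        exact hle
      exact this
    have hf : Spec.map m ≫ Spec.map (CommRingCat.ofHom (algebraMap Γ(X, V) C)) =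
        Spec.map (CommRingCat.ofHom f.toRingHom) ≫ Spec.map (i.appLE V U e) := by
      rw [← Spec.map_comp, ← Spec.map_comp]
      congr 1
      exact CommRingCat.hom_ext (RingHom.ext fun r => (f.commutes r).symm)
    obtain ⟨z, hz⟩ := lift C fun q => by
      obtain ⟨q', rfl⟩ := hm q
      show (Spec.map (CommRingCat.ofHom (algebraMap Γ(X, V) C))).base ((Spec.map m).base q') ∈ EA
      rw [← Scheme.Hom.comp_apply, hf, Scheme.Hom.comp_apply]
      exact hB _
    have hzm : Spec.map m ≫ z = Spec.map (CommRingCat.ofHom f.toRingHom) ≫ hU.fromSpec := by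
      refine (cancel_mono i).1 ?_
      rw [Category.assoc, hz, ← Category.assoc, hf, Category.assoc, Category.assoc, hj]
    obtain ⟨g, hg⟩ := inU C z hz fun q => by
      obtain ⟨q', rfl⟩ := hm q
      rw [← Scheme.Hom.comp_apply, hzm, Scheme.Hom.comp_apply]
      have := Set.mem_range_self (f := hU.fromSpec.base) ((Spec.map (CommRingCat.ofHom f.toRingHom)).base q')
      rwa [hU.range_fromSpec] at this
    refine ⟨g, AlgHom.coe_ringHom_injective ?_⟩
    have : CommRingCat.ofHom g.toRingHom ≫ m = CommRingCat.ofHom f.toRingHom := by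
      refine Spec.map_injective ((cancel_mono hU.fromSpec).1 ?_)
      rw [Spec.map_comp, Category.assoc, hg, hzm]
    exact congrArg CommRingCat.Hom.hom this
  exact RingHom.smooth_algebraMap.2 ⟨inferInstance, inferInstance⟩

end Groth.Agent.FactorRange
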